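import Mathlib

set_option autoImplicit false
set_option linter.style.haveILetI false

/-!
# The integral closure of a reduced Noetherian ring in its total ring of fractions
-/

namespace Groth.Agent.ReducedNormalization

universe u

variable (A : Type u) [CommRing A]

/-- The minimal primes of `A` as points. -/
abbrev Comp : Type u := {p : PrimeSpectrum A // p.asIdeal ∈ minimalPrimes A}

/-- The fraction field of the component `p`. -/
abbrev CompField (p : Comp A) : Type u := FractionRing (A ⧸ p.1.asIdeal)

variable {A}

instance finite_comp [IsNoetherianRing A] : Finite (Comp A) := by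
  haveI := (minimalPrimes.finite_of_isNoetherianRing A).to_subtype
  exact Finite.of_injective (β := minimalPrimes A) (fun p => ⟨p.1.asIdeal, p.2⟩)
    (fun a b h => Subtype.ext (PrimeSpectrum.ext (congrArg Subtype.val h :)))

theorem algebraMap_compField_eq_zero (p : Comp A) (a : A) :
    algebraMap A (CompField A p) a = 0 ↔ a ∈ p.1.asIdeal := by
  rw [IsScalarTower.algebraMap_apply A (A ⧸ p.1.asIdeal) (CompField A p),
    map_eq_zero_iff _ (IsFractionRing.injective (A ⧸ p.1.asIdeal) (CompField A p)),
    Ideal.Quotient.algebraMap_eq, Ideal.Quotient.eq_zero_iff_mem]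

theorem eq_zero_of_forall_mem [IsReduced A] {x : A} (h : ∀ p : Comp A, x ∈ p.1.asIdeal) : x = 0 := by
  have hx : x ∈ sInf (⊥ : Ideal A).minimalPrimes :=
    Submodule.mem_sInf.mpr fun q hq => h ⟨⟨q, hq.1.1⟩, hq⟩
  rw [Ideal.sInf_minimalPrimes] at hx
  obtain ⟨n, hn⟩ := hx
  exact eq_zero_of_pow_eq_zero (Ideal.mem_bot.mp hn)

theorem mem_nonZeroDivisors_of_forall_notMem [IsReduced A] {s : A}
    (h : ∀ p : Comp A, s ∉ p.1.asIdeal) : s ∈ nonZeroDivisors A := by
  rw [mem_nonZeroDivisors_iff_right]
  intro x hx
  refine eq_zero_of_forall_mem fun p => ?_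
  exact (p.1.isPrime.mem_or_mem (hx ▸ p.1.asIdeal.zero_mem)).resolve_right (h p)

/-- The projection of the total ring of fractions to the field of a component. -/
noncomputable def proj (p : Comp A) : FractionRing A →ₐ[A] CompField A p :=
  IsLocalization.liftAlgHom (M := nonZeroDivisors A) (S := FractionRing A)
    (f := Algebra.ofId A (CompField A p)) fun s => Ne.isUnit fun h =>
      notMem_nonZeroDivisors_of_mem_mem_minimalPrimes
        ((algebraMap_compField_eq_zero p s).mp h) p.2 s.2

theorem proj_jointly_injective [IsReduced A] {x y : FractionRing A}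
    (h : ∀ p : Comp A, proj p x = proj p y) : x = y := by
  rw [← sub_eq_zero]
  obtain ⟨⟨a, s⟩, hs⟩ := IsLocalization.surj (nonZeroDivisors A) (x - y)
  have ha : a = 0 := eq_zero_of_forall_mem fun p => by
    rw [← algebraMap_compField_eq_zero, ← (proj p).commutes, ← hs, map_mul, map_sub, h p, sub_self,
      zero_mul]
  rw [ha, map_zero] at hs
  exact (IsLocalization.map_units (FractionRing A) s).mul_left_eq_zero.mp hs

theorem proj_surjective_at [IsReduced A] [Finite (Comp A)] (p : Comp A) (y : CompField A p) :
    ∃ z : FractionRing A, proj p z = y ∧ ∀ q, q ≠ p → proj q z = 0 := by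
  classical
  haveI := Fintype.ofFinite (Comp A)
  have hu : ∀ r : Comp A, ∃ u : A, u ∉ r.1.asIdeal ∧ ∀ q : Comp A, q ≠ r → u ∈ q.1.asIdeal := by
    intro r
    by_contra! hne
    have hle : (Finset.univ.erase r).inf (fun q : Comp A => q.1.asIdeal) ≤ r.1.asIdeal := by
      intro u hu
      by_contra hur
      obtain ⟨q, hqr, hqu⟩ := hne u hur
      exact hqu (Finset.inf_le (f := fun q : Comp A => q.1.asIdeal)
        (Finset.mem_erase.mpr ⟨hqr, Finset.mem_univ q⟩) hu)
    obtain ⟨q, hq, hqle⟩ := r.1.isPrime.inf_le'.mp hle
    have hqr : q.1.asIdeal = r.1.asIdeal := le_antisymm hqle (r.2.2 ⟨q.1.isPrime, bot_le⟩ hqle)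
    exact (Finset.ne_of_mem_erase hq) (Subtype.ext (PrimeSpectrum.ext hqr))
  choose u hup hu using hu
  obtain ⟨a', b', hb', hab⟩ := IsFractionRing.div_surjective (A := A ⧸ p.1.asIdeal) y
  obtain ⟨a, rfl⟩ := Ideal.Quotient.mk_surjective a'
  obtain ⟨b, rfl⟩ := Ideal.Quotient.mk_surjective b'
  have hb : b ∉ p.1.asIdeal := fun h =>
    nonZeroDivisors.ne_zero hb' (Ideal.Quotient.eq_zero_iff_mem.mpr h)
  have hsum : ∀ q : Comp A, (∑ r ∈ Finset.univ.erase p, u r) ∈ q.1.asIdeal ↔ q = p := by
    intro q
    constructor
    · intro hmem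
      by_contra hqp
      rw [← Finset.add_sum_erase _ _ (Finset.mem_erase.mpr ⟨hqp, Finset.mem_univ q⟩)] at hmem
      refine hup q ((q.1.asIdeal.add_mem_iff_left ?_).mp hmem)
      exact Ideal.sum_mem _ fun r hr => hu r q (Finset.ne_of_mem_erase hr).symm
    · rintro rfl
      exact Ideal.sum_mem _ fun r hr => hu r q (Finset.ne_of_mem_erase hr).symm
  set d : A := b * u p + ∑ r ∈ Finset.univ.erase p, u r with hd
  have hdq : ∀ q : Comp A, d ∉ q.1.asIdeal := by
    intro q hdq
    by_cases hqp : q = p
    · subst hqp
      have h1 : b * u q ∈ q.1.asIdeal := (q.1.asIdeal.add_mem_iff_left ((hsum q).mpr rfl)).mp hdq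
      exact (q.1.isPrime.mem_or_mem h1).elim hb (hup q)
    · have h1 : b * u p ∈ q.1.asIdeal := Ideal.mul_mem_left _ b (hu p q hqp)
      exact hqp ((hsum q).mp ((q.1.asIdeal.add_mem_iff_right h1).mp hdq))
  refine ⟨IsLocalization.mk' (FractionRing A) (a * u p)
    ⟨d, mem_nonZeroDivisors_of_forall_notMem hdq⟩, ?_, fun q hq => ?_⟩
  · have hval := congrArg (proj p) (IsLocalization.mk'_spec (FractionRing A) (a * u p)
      (⟨d, mem_nonZeroDivisors_of_forall_notMem hdq⟩ : nonZeroDivisors A))
    rw [map_mul, AlgHom.commutes, AlgHom.commutes] at hval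
    have hdp : algebraMap A (CompField A p) d = algebraMap A (CompField A p) (b * u p) := by
      rw [hd, map_add, (algebraMap_compField_eq_zero p _).mpr ((hsum p).mpr rfl), add_zero]
    rw [hdp, map_mul, map_mul, ← mul_assoc] at hval
    have hup' : algebraMap A (CompField A p) (u p) ≠ 0 := mt (algebraMap_compField_eq_zero p _).mp (hup p)
    have hb0 : algebraMap A (CompField A p) b ≠ 0 := mt (algebraMap_compField_eq_zero p _).mp hb
    rw [← hab, eq_div_iff (by exact hb0)]
    exact mul_right_cancel₀ hup' hval
  · have hval := congrArg (proj q) (IsLocalization.mk'_spec (FractionRing A) (a * u p)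
      (⟨d, mem_nonZeroDivisors_of_forall_notMem hdq⟩ : nonZeroDivisors A))
    rw [map_mul, AlgHom.commutes, AlgHom.commutes, map_mul,
      (algebraMap_compField_eq_zero q (u p)).mpr (hu p q hq), mul_zero] at hval
    exact (mul_eq_zero.mp hval).resolve_right (mt (algebraMap_compField_eq_zero q _).mp (hdq q))

theorem isIntegral_of_forall_proj [IsReduced A] [Finite (Comp A)] {x : FractionRing A}
    (h : ∀ p : Comp A, IsIntegral A (proj p x)) : IsIntegral A x := by
  classical
  haveI := Fintype.ofFinite (Comp A)
  choose P hPm hP using h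
  refine ⟨∏ p, P p, Polynomial.monic_prod_of_monic _ _ fun p _ => hPm p, ?_⟩
  rw [← Polynomial.aeval_def]
  refine proj_jointly_injective fun q => ?_
  rw [map_zero, ← Polynomial.aeval_algHom_apply, map_prod]
  exact Finset.prod_eq_zero (Finset.mem_univ q) (hP q)

/-- The projection on integral closures. -/
noncomputable def projInt (p : Comp A) :
    integralClosure A (FractionRing A) →ₐ[A] integralClosure A (CompField A p) :=
  (proj p).mapIntegralClosure

theorem projInt_surjective [IsReduced A] [Finite (Comp A)] (p : Comp A) :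
    Function.Surjective (projInt p) := by
  classical
  intro y
  obtain ⟨z, hz, hzq⟩ := proj_surjective_at p (y : CompField A p)
  refine ⟨⟨z, isIntegral_of_forall_proj fun q => ?_⟩, Subtype.ext hz⟩
  by_cases hqp : q = p
  · subst hqp; exact hz ▸ y.2
  · rw [hzq q hqp]; exact isIntegral_zero

/-- If every component has finite normalization then so does `A`. -/
theorem finite_integralClosure [IsReduced A] [IsNoetherianRing A]
    (h : ∀ p : Comp A, Module.Finite A (integralClosure A (CompField A p))) :
    Module.Finite A (integralClosure A (FractionRing A)) := by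
  haveI := finite_comp (A := A)
  haveI := h
  refine Module.Finite.of_injective (LinearMap.pi fun p => (projInt (A := A) p).toLinearMap) ?_
  intro x y hxy
  exact Subtype.ext (proj_jointly_injective fun p => congrArg Subtype.val (congrFun hxy p))

theorem isDomain_isIntegrallyClosed_component (p : Comp A) :
    IsDomain (integralClosure A (CompField A p)) ∧
      IsIntegrallyClosed (integralClosure A (CompField A p)) := by
  refine ⟨inferInstance, ?_⟩
  haveI : IsFractionRing (integralClosure A (CompField A p)) (CompField A p) := by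
    refine IsFractionRing.of_field _ _ fun z => ?_
    obtain ⟨a', b', -, hab⟩ := IsFractionRing.div_surjective (A := A ⧸ p.1.asIdeal) z
    obtain ⟨a, rfl⟩ := Ideal.Quotient.mk_surjective a'
    obtain ⟨b, rfl⟩ := Ideal.Quotient.mk_surjective b'
    exact ⟨algebraMap A _ a, algebraMap A _ b, hab.symm⟩
  exact (isIntegrallyClosed_iff (CompField A p)).mpr fun {x} hx =>
    IsIntegralClosure.isIntegral_iff.mp (isIntegral_trans (R := A) x hx)

/-- Every localization of the normalization at a prime is an integrally closed domain. -/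
theorem normal_localization [IsReduced A] [IsNoetherianRing A]
    (P : Ideal (integralClosure A (FractionRing A))) [hP : P.IsPrime] :
    IsDomain (Localization.AtPrime P) ∧ IsIntegrallyClosed (Localization.AtPrime P) := by
  classical
  haveI := finite_comp (A := A)
  haveI := Fintype.ofFinite (Comp A)
  have hz := fun p : Comp A => proj_surjective_at p (1 : CompField A p)
  choose z hzp hzq using hz
  have hzint : ∀ p, IsIntegral A (z p) := fun p => isIntegral_of_forall_proj fun q => by
    by_cases hqp : q = p
    · subst hqp; rw [hzp]; exact isIntegral_one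
    · rw [hzq p q hqp]; exact isIntegral_zero
  let e : Comp A → integralClosure A (FractionRing A) := fun p => ⟨z p, hzint p⟩
  have hsum : ∑ p, e p = 1 := by
    refine Subtype.ext (proj_jointly_injective fun q => ?_)
    simp only [AddSubmonoidClass.coe_finsetSum, map_sum, OneMemClass.coe_one, map_one]
    rw [Finset.sum_eq_single q (fun p _ hp => hzq p q (Ne.symm hp)) (by simp), hzp]
  obtain ⟨p, hp⟩ : ∃ p, e p ∉ P := by
    by_contra! h
    exact hP.ne_top ((Ideal.eq_top_iff_one P).mpr (hsum ▸ Ideal.sum_mem _ fun p _ => h p))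
  have hker : ∀ x, projInt p x = 0 → e p * x = 0 := by
    intro x hx
    refine Subtype.ext (proj_jointly_injective fun q => ?_)
    simp only [MulMemClass.coe_mul, map_mul, ZeroMemClass.coe_zero, map_zero]
    by_cases hqp : q = p
    · subst hqp
      rw [show proj q (x : FractionRing A) = 0 from congrArg Subtype.val hx, mul_zero]
    · rw [show proj q (e p : FractionRing A) = 0 from hzq p q hqp, zero_mul]
  have hkerP : RingHom.ker (projInt p).toRingHom ≤ P := fun x hx =>
    (hP.mem_or_mem ((hker x hx).symm ▸ P.zero_mem)).resolve_left hp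
  haveI := isDomain_isIntegrallyClosed_component p |>.1
  haveI := isDomain_isIntegrallyClosed_component p |>.2
  set Q := P.map (projInt p).toRingHom with hQ
  haveI : Q.IsPrime := Ideal.map_isPrime_of_surjective (projInt_surjective p) hkerP
  have hcomap : Q.comap (projInt p).toRingHom = P := by
    exact (Ideal.comap_map_of_surjective' _ (projInt_surjective p) P).trans (sup_eq_left.mpr hkerP)
  letI : Algebra (integralClosure A (FractionRing A)) (Localization.AtPrime Q) :=
    ((algebraMap _ (Localization.AtPrime Q)).comp (projInt p).toRingHom).toAlgebra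
  haveI : IsLocalization P.primeCompl (Localization.AtPrime Q) := by
    constructor
    refine ⟨fun s => ?_, fun w => ?_, fun {x y} hxy => ?_⟩
    · refine IsLocalization.map_units (Localization.AtPrime Q)
        (⟨projInt p s, fun hs => s.2 (hcomap.le hs)⟩ : Q.primeCompl)
    · obtain ⟨⟨b, s⟩, hbs⟩ := IsLocalization.surj Q.primeCompl w
      obtain ⟨x, rfl⟩ := projInt_surjective p b
      obtain ⟨t, ht⟩ := projInt_surjective p s.1
      have hmem : ∀ h : t ∈ P, (s : integralClosure A (CompField A p)) ∈ Q := fun h =>
        ht ▸ Ideal.mem_map_of_mem (projInt p).toRingHom h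
      refine ⟨(x, ⟨t, fun h => s.2 (hmem h)⟩), ?_⟩
      exact (congrArg (fun v => w * algebraMap _ (Localization.AtPrime Q) v) ht).trans hbs
    · obtain ⟨s, hs⟩ := IsLocalization.exists_of_eq (M := Q.primeCompl) hxy
      obtain ⟨t, ht⟩ := projInt_surjective p s.1
      refine ⟨⟨e p * t, fun h => (hP.mem_or_mem h).elim hp fun htP => s.2 ?_⟩, ?_⟩
      · rw [← ht]; exact Ideal.mem_map_of_mem _ htP
      · have h0 : projInt p (t * x - t * y) = 0 := by
          rw [map_sub, map_mul, map_mul, ht, sub_eq_zero]; exact hs
        show e p * t * x = e p * t * y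
        linear_combination hker _ h0
  let iso := IsLocalization.algEquiv P.primeCompl (Localization.AtPrime P) (Localization.AtPrime Q)
  refine ⟨iso.injective.isDomain iso.toRingEquiv.toRingHom, ?_⟩
  haveI : IsDomain (Localization.AtPrime Q) := inferInstance
  haveI : IsIntegrallyClosed (Localization.AtPrime Q) :=
    isIntegrallyClosed_of_isLocalization _ Q.primeCompl (Ideal.primeCompl_le_nonZeroDivisors Q)
  exact IsIntegrallyClosed.of_equiv (R := Localization.AtPrime Q) iso.symm.toRingEquiv

end Groth.Agent.ReducedNormalization
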