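import Groth.Agent.ReducedNormalization.DeltaInv
import Groth.Prelude.Def_Brnch

set_option autoImplicit false
set_option linter.style.haveILetI false

namespace Groth.Agent.ReducedNormalization

universe u

open IsLocalRing

/-- `Σ (separable degrees) ≤ length (B / image of A) + 1` for a finite algebra over a local ring. -/
theorem card_embeddings_le_length_add_one {A B : Type u} [CommRing A] [IsLocalRing A] [CommRing B]
    [Algebra A B] [Module.Finite A B] :
    ENat.card (Σ m : MaximalSpectrum B, {σ : B ⧸ m.asIdeal →+* AlgebraicClosure (ResidueField A) //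
      σ.comp ((Ideal.Quotient.mk m.asIdeal).comp (algebraMap A B)) = Brnch.toClosure A}) ≤
      Module.length A (B ⧸ LinearMap.range (Algebra.linearMap A B)) + 1 := by
  classical
  have hover : ∀ m : MaximalSpectrum B, maximalIdeal A ≤ m.asIdeal.comap (algebraMap A B) := by
    intro m
    haveI := m.isMaximal
    exact (IsLocalRing.eq_maximalIdeal (Ideal.isMaximal_comap_of_isIntegral_of_isMaximal m.asIdeal)).ge
  haveI : Finite (MaximalSpectrum B) := by
    letI : Field (A ⧸ maximalIdeal A) := Ideal.Quotient.field _
    haveI : Module.Finite (A ⧸ maximalIdeal A) (B ⧸ (maximalIdeal A).map (algebraMap A B)) :=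
      Module.Finite.of_restrictScalars_finite A _ _
    haveI : IsArtinianRing (B ⧸ (maximalIdeal A).map (algebraMap A B)) :=
      isArtinian_of_tower (A ⧸ maximalIdeal A) inferInstance
    have hmax : ∀ m : MaximalSpectrum B,
        (m.asIdeal.map (Ideal.Quotient.mk ((maximalIdeal A).map (algebraMap A B)))).IsMaximal := fun m => by
      haveI := m.isMaximal
      refine (Ideal.map_eq_top_or_isMaximal_of_surjective _ Ideal.Quotient.mk_surjective m.isMaximal).resolve_left ?_
      intro h
      have h2 := congrArg (Ideal.comap (Ideal.Quotient.mk ((maximalIdeal A).map (algebraMap A B)))) h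
      rw [Ideal.comap_map_of_surjective' _ Ideal.Quotient.mk_surjective, Ideal.mk_ker, Ideal.comap_top,
        sup_eq_left.mpr (Ideal.map_le_iff_le_comap.mpr (hover m))] at h2
      exact m.isMaximal.ne_top h2
    refine Finite.of_injective (β := MaximalSpectrum (B ⧸ (maximalIdeal A).map (algebraMap A B)))
      (fun m => ⟨_, hmax m⟩) fun m m' h => MaximalSpectrum.ext ?_
    have h2 := congrArg (Ideal.comap (Ideal.Quotient.mk ((maximalIdeal A).map (algebraMap A B))))
      (congrArg MaximalSpectrum.asIdeal h)
    simp only [Ideal.comap_map_of_surjective' _ Ideal.Quotient.mk_surjective, Ideal.mk_ker] at h2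
    rwa [sup_eq_left.mpr (Ideal.map_le_iff_le_comap.mpr (hover m)),
      sup_eq_left.mpr (Ideal.map_le_iff_le_comap.mpr (hover m'))] at h2
  haveI := Fintype.ofFinite (MaximalSpectrum B)
  have hker : ∀ (m : MaximalSpectrum B), ∀ a ∈ maximalIdeal A,
      ((Ideal.Quotient.mk m.asIdeal).comp (algebraMap A B)) a = 0 := fun m a ha =>
    Ideal.Quotient.eq_zero_iff_mem.mpr (hover m ha)
  -- the residue extensions
  letI algM : ∀ m : MaximalSpectrum B, Algebra (ResidueField A) (B ⧸ m.asIdeal) := fun m =>
    (Ideal.Quotient.lift (maximalIdeal A) ((Ideal.Quotient.mk m.asIdeal).comp (algebraMap A B))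
      (hker m)).toAlgebra
  haveI : ∀ m : MaximalSpectrum B, IsScalarTower A (ResidueField A) (B ⧸ m.asIdeal) := fun m =>
    IsScalarTower.of_algebraMap_eq fun a => rfl
  haveI : ∀ m : MaximalSpectrum B, Module.Finite (ResidueField A) (B ⧸ m.asIdeal) := fun m =>
    Module.Finite.of_restrictScalars_finite A _ _
  have hlen : ∀ m : MaximalSpectrum B,
      Module.length A (B ⧸ m.asIdeal) = Module.finrank (ResidueField A) (B ⧸ m.asIdeal) := fun m => by
    rw [Module.length_eq_of_surjective (R := ResidueField A) IsLocalRing.residue_surjective,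
      Module.length_eq_finrank]
  letI := fun m : MaximalSpectrum B => Ideal.Quotient.field m.asIdeal
  have hcard : ∀ m : MaximalSpectrum B,
      ENat.card {σ : B ⧸ m.asIdeal →+* AlgebraicClosure (ResidueField A) //
        σ.comp ((Ideal.Quotient.mk m.asIdeal).comp (algebraMap A B)) = Brnch.toClosure A} ≤
        Module.length A (B ⧸ m.asIdeal) := by
    intro m
    let g : {σ : B ⧸ m.asIdeal →+* AlgebraicClosure (ResidueField A) //
        σ.comp ((Ideal.Quotient.mk m.asIdeal).comp (algebraMap A B)) = Brnch.toClosure A} →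
        (B ⧸ m.asIdeal →ₐ[ResidueField A] AlgebraicClosure (ResidueField A)) := fun σ =>
      { σ.1 with
        commutes' := fun r => by
          obtain ⟨a, rfl⟩ := IsLocalRing.residue_surjective r
          exact DFunLike.congr_fun σ.2 a }
    have hg : Function.Injective g := fun a b h =>
      Subtype.ext (RingHom.ext fun w => DFunLike.congr_fun h w)
    haveI := Finite.of_injective g hg
    rw [hlen m, ENat.card_eq_coe_natCard, Nat.cast_le]
    exact (Nat.card_le_card_of_injective g hg).trans (card_algHom_le_finrank (ResidueField A) _ _)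
  have hsig : ENat.card (Σ m : MaximalSpectrum B, {σ : B ⧸ m.asIdeal →+* AlgebraicClosure (ResidueField A) //
      σ.comp ((Ideal.Quotient.mk m.asIdeal).comp (algebraMap A B)) = Brnch.toClosure A}) ≤
      Module.length A (∀ m : MaximalSpectrum B, B ⧸ m.asIdeal) := by
    rw [Module.length_pi_of_fintype]
    haveI : ∀ m : MaximalSpectrum B, Finite {σ : B ⧸ m.asIdeal →+* AlgebraicClosure (ResidueField A) //
        σ.comp ((Ideal.Quotient.mk m.asIdeal).comp (algebraMap A B)) = Brnch.toClosure A} := fun m => by
      by_contra hfin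
      haveI := not_finite_iff_infinite.mp hfin
      have h := hcard m
      rw [ENat.card_eq_top_of_infinite, hlen m, top_le_iff] at h
      exact ENat.natCast_ne_top _ h
    rw [ENat.card_eq_coe_natCard, Nat.card_sigma, Nat.cast_sum]
    refine Finset.sum_le_sum fun m _ => ?_
    rw [← ENat.card_eq_coe_natCard]
    exact hcard m
  refine hsig.trans ?_
  have hcop : Pairwise (Function.onFun IsCoprime fun m : MaximalSpectrum B => m.asIdeal) := fun m m' h =>
    Ideal.isCoprime_iff_sup_eq.mpr (m.isMaximal.coprime_of_ne m'.isMaximal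
      (fun e => h (MaximalSpectrum.ext e)))
  let π : B →ₗ[A] (∀ m : MaximalSpectrum B, B ⧸ m.asIdeal) :=
    LinearMap.pi fun m => (Ideal.Quotient.mkₐ A m.asIdeal).toLinearMap
  have hπ : Function.Surjective π := fun x => by
    obtain ⟨r, hr⟩ := Ideal.pi_mkQ_surjective hcop x
    exact ⟨r, hr⟩
  set R := LinearMap.range (Algebra.linearMap A B) with hR
  set N := R.map π with hN
  have hseq := Module.length_eq_add_of_exact N.subtype N.mkQ N.subtype_injective N.mkQ_surjective
    (LinearMap.exact_subtype_mkQ N)
  rw [hseq, add_comm]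
  refine add_le_add ?_ ?_
  · refine Module.length_le_of_surjective (R.mapQ N π (Submodule.le_comap_map π R)) ?_
    intro q
    obtain ⟨x, rfl⟩ := N.mkQ_surjective q
    obtain ⟨b, rfl⟩ := hπ x
    exact ⟨Submodule.Quotient.mk b, rfl⟩
  · let ι : ResidueField A →ₗ[A] N :=
      (maximalIdeal A).liftQ (LinearMap.toSpanSingleton A N
        ⟨π 1, ⟨1, ⟨1, map_one (algebraMap A B)⟩, rfl⟩⟩) (fun a ha => by
          refine Subtype.ext (funext fun m => ?_)
          show a • (Ideal.Quotient.mk m.asIdeal (1 : B)) = 0
          rw [map_one, Algebra.smul_def, mul_one]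
          exact hker m a ha)
    have hι : Function.Surjective ι := by
      rintro ⟨_, b, ⟨a, rfl⟩, rfl⟩
      refine ⟨Submodule.Quotient.mk a, Subtype.ext ?_⟩
      show a • π 1 = π (algebraMap A B a)
      rw [← map_smul, Algebra.smul_def, mul_one]
    refine (Module.length_le_of_surjective ι hι).trans (le_of_eq ?_)
    rw [Module.length_eq_of_surjective (R := ResidueField A) IsLocalRing.residue_surjective,
      Module.length_eq_finrank, Module.finrank_self, Nat.cast_one]

theorem numGeomBranches_le {A : Type u} [CommRing A] [IsLocalRing A] [IsReduced A]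
    (hN : CAlg.IsNagata A) : Brnch.numGeomBranches A ≤ Curv2.deltaInv A + 1 := by
  classical
  haveI := hN.1
  haveI := finite_integralClosure_of_nagata hN
  have hnil : nilradical A = ⊥ := nilradical_eq_zero A
  let q : A →ₐ[A] CAlg2.red A := Ideal.Quotient.mkₐ A (nilradical A)
  have hq : Function.Bijective q := ⟨(injective_iff_map_eq_zero q).mpr fun a ha => by
    have : a ∈ nilradical A := Ideal.Quotient.eq_zero_iff_mem.mp ha
    rw [hnil] at this
    exact this, Ideal.Quotient.mk_surjective⟩
  let φ : FractionRing A ≃ₐ[A] FractionRing (CAlg2.red A) :=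
    IsFractionRing.algEquivOfAlgEquiv (AlgEquiv.ofBijective q hq)
  haveI : Algebra.IsIntegral A (CAlg2.red A) := Algebra.IsIntegral.of_surjective q hq.2
  let ψ : integralClosure A (FractionRing A) →ₗ[A] CAlg2.normRed A :=
    { toFun := fun x => ⟨φ x.1, (x.2.map φ.toAlgHom).tower_top⟩
      map_add' := fun x y => Subtype.ext (map_add φ _ _)
      map_smul' := fun c x => Subtype.ext (map_smul φ c x.1) }
  have hψ : Function.Bijective ψ := by
    refine ⟨fun x y h => Subtype.ext (φ.injective (congrArg Subtype.val h)), fun y => ?_⟩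
    refine ⟨⟨φ.symm y.1, IsIntegral.map φ.symm.toAlgHom (isIntegral_trans (R := A) y.1 y.2)⟩,
      Subtype.ext (φ.apply_symm_apply y.1)⟩
  haveI : Module.Finite A (CAlg2.normRed A) := Module.Finite.of_surjective ψ hψ.2
  have h := card_embeddings_le_length_add_one (A := A) (B := CAlg2.normRed A)
  have hlen : Module.length A (CAlg2.normRed A ⧸ LinearMap.range (Algebra.linearMap A (CAlg2.normRed A))) =
      Curv2.deltaInv A := by
    refine ((Submodule.Quotient.equiv _ _ (LinearEquiv.ofBijective ψ hψ) ?_).length_eq).symm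
    ext y
    constructor
    · rintro ⟨_, ⟨a, rfl⟩, rfl⟩
      exact ⟨a, Subtype.ext (φ.commutes a).symm⟩
    · rintro ⟨a, rfl⟩
      exact ⟨_, ⟨a, rfl⟩, Subtype.ext (φ.commutes a)⟩
  rw [hlen] at h
  rw [Brnch.numGeomBranches, if_pos (minimalPrimes.finite_of_isNoetherianRing A)]
  exact h

end Groth.Agent.ReducedNormalization
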