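import Groth.Agent.ReducedNormalization.Basic
import Groth.Agent.Dim1Local.Basic
import Groth.Prelude.Def_Found
import Groth.Prelude.Def_Curv2

set_option autoImplicit false
set_option linter.style.haveILetI false

namespace Groth.Agent.ReducedNormalization

universe u

variable {A : Type u} [CommRing A]

/-- Reduced Nagata rings have finite normalization. -/
theorem finite_integralClosure_of_nagata [IsReduced A] (hN : CAlg.IsNagata A) :
    Module.Finite A (integralClosure A (FractionRing A)) := by
  haveI := hN.1
  refine finite_integralClosure fun p => ?_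
  haveI h2 : Module.Finite (A ⧸ p.1.asIdeal) (integralClosure (A ⧸ p.1.asIdeal) (CompField A p)) :=
    hN.2 p.1.asIdeal (CompField A p) inferInstance
  haveI : Module.Finite A (integralClosure (A ⧸ p.1.asIdeal) (CompField A p)) :=
    Module.Finite.trans (A ⧸ p.1.asIdeal) _
  let f : integralClosure A (CompField A p) →ₗ[A] integralClosure (A ⧸ p.1.asIdeal) (CompField A p) :=
    { toFun := fun x => ⟨x.1, x.2.tower_top⟩
      map_add' := fun x y => rfl
      map_smul' := fun c x => Subtype.ext (by simp) }
  exact Module.Finite.of_injective f fun x y h =>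
    Subtype.ext (congrArg (fun w : integralClosure (A ⧸ p.1.asIdeal) (CompField A p) =>
      (w : CompField A p)) h)

/-- For a one-dimensional reduced Nagata local ring the δ-invariant is finite. -/
theorem deltaInv_lt_top [IsLocalRing A] [IsReduced A] (hN : CAlg.IsNagata A)
    (hdim : ringKrullDim A ≤ 1) : Curv2.deltaInv A < ⊤ := by
  classical
  haveI := hN.1
  haveI := finite_integralClosure_of_nagata hN
  obtain ⟨S, hS⟩ := (Module.Finite.fg_top : (⊤ : Submodule A (integralClosure A (FractionRing A))).FG)
  obtain ⟨c, hc⟩ := IsLocalization.exist_integer_multiples_of_finset (nonZeroDivisors A)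
    (S.image Subtype.val)
  set R := LinearMap.range (Algebra.linearMap A ↥(integralClosure A (FractionRing A))) with hR
  have hcS : ∀ w : integralClosure A (FractionRing A), (c : A) • w ∈ R := by
    intro w
    have hw : w ∈ Submodule.span A (S : Set (integralClosure A (FractionRing A))) := by
      rw [hS]; trivial
    refine Submodule.span_induction (p := fun v _ => (c : A) • v ∈ R) ?_ ?_ ?_ ?_ hw
    · intro v hv
      obtain ⟨r, hr⟩ := hc v (Finset.mem_image_of_mem _ hv)
      exact ⟨r, Subtype.ext hr⟩
    · simp
    · intro a b _ _ ha hb; rw [smul_add]; exact R.add_mem ha hb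
    · intro r v _ hv; rw [smul_comm]; exact R.smul_mem r hv
  have hJ : ∀ q ∈ minimalPrimes A, ¬ Ideal.span {(c : A)} ≤ q := fun q hq hle =>
    notMem_nonZeroDivisors_of_mem_mem_minimalPrimes (hle (Ideal.mem_span_singleton_self _)) hq c.2
  obtain ⟨k, hk⟩ := Groth.Agent.Dim1Local.exists_maximalIdeal_pow_le hdim _ hJ
  haveI : Ring.KrullDimLE 0 (A ⧸ Ideal.span {(c : A)}) := Ring.KrullDimLE.mk₀ fun P hP => by
    have hP' : (P.comap (Ideal.Quotient.mk (Ideal.span {(c : A)}))).IsPrime := Ideal.comap_isPrime _ P
    have hle : Ideal.span {(c : A)} ≤ P.comap (Ideal.Quotient.mk (Ideal.span {(c : A)})) := fun a ha => by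
      simp [Ideal.mem_comap, Ideal.Quotient.eq_zero_iff_mem.mpr ha]
    have hm : IsLocalRing.maximalIdeal A ≤ P.comap (Ideal.Quotient.mk (Ideal.span {(c : A)})) := fun a ha =>
      hP'.mem_of_pow_mem k ((hk.trans hle) (Ideal.pow_mem_pow ha k))
    haveI : (P.comap (Ideal.Quotient.mk (Ideal.span {(c : A)}))).IsMaximal :=
      ((IsLocalRing.maximalIdeal.isMaximal A).eq_of_le hP'.ne_top hm) ▸ IsLocalRing.maximalIdeal.isMaximal A
    exact (Ideal.map_comap_of_surjective _ Ideal.Quotient.mk_surjective P) ▸
      (Ideal.map_eq_top_or_isMaximal_of_surjective _ Ideal.Quotient.mk_surjective this).resolve_left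
        (by rw [Ideal.map_comap_of_surjective _ Ideal.Quotient.mk_surjective]; exact hP.ne_top)
  haveI : IsArtinianRing (A ⧸ Ideal.span {(c : A)}) := isArtinianRing_iff_krullDimLE_zero.mpr inferInstance
  haveI : IsArtinian A (A ⧸ Ideal.span {(c : A)}) :=
    isArtinian_of_surjective_algebraMap (R := A ⧸ Ideal.span {(c : A)}) (S := A)
      Ideal.Quotient.mk_surjective
  have hann : ∀ (a : A) (v : integralClosure A (FractionRing A) ⧸ R), a ∈ Ideal.span {(c : A)} → a • v = 0 := by
    intro a v ha
    obtain ⟨w, rfl⟩ := Submodule.Quotient.mk_surjective _ v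
    obtain ⟨b, rfl⟩ := Ideal.mem_span_singleton'.mp ha
    rw [mul_smul, ← Submodule.Quotient.mk_smul, (Submodule.Quotient.mk_eq_zero R).mpr (hcS w), smul_zero]
  let gen : S → (A ⧸ Ideal.span {(c : A)}) →ₗ[A] (integralClosure A (FractionRing A) ⧸ R) := fun w =>
    (Ideal.span {(c : A)}).liftQ (LinearMap.toSpanSingleton A _ (Submodule.Quotient.mk w.1))
      fun a ha => hann a _ ha
  let G : ((_ : S) → A ⧸ Ideal.span {(c : A)}) →ₗ[A] (integralClosure A (FractionRing A) ⧸ R) :=
    LinearMap.lsum A (fun _ : S => A ⧸ Ideal.span {(c : A)}) A gen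
  have hG : Function.Surjective G := by
    rw [← LinearMap.range_eq_top, eq_top_iff, ← Submodule.range_mkQ R, LinearMap.range_eq_map, ← hS,
      Submodule.map_span_le]
    intro w hw
    refine ⟨Pi.single ⟨w, hw⟩ (Submodule.Quotient.mk 1), ?_⟩
    rw [show G = LinearMap.lsum A (fun _ : S => A ⧸ Ideal.span {(c : A)}) A gen from rfl,
      LinearMap.lsum_piSingle]
    show (1 : A) • (Submodule.Quotient.mk (p := R) w) = _
    rw [one_smul]
    rfl
  haveI := isArtinian_of_surjective _ G hG
  haveI := isNoetherian_of_surjective G (LinearMap.range_eq_top.mpr hG)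
  exact Module.length_ne_top.lt_top

/-- The δ-invariant vanishes exactly for discrete valuation rings. -/
theorem deltaInv_eq_zero_iff [IsLocalRing A] [IsReduced A] [IsNoetherianRing A]
    (hdim : ringKrullDim A = 1) :
    Curv2.deltaInv A = 0 ↔ ∃ _ : IsDomain A, IsDiscreteValuationRing A := by
  classical
  have hnf : ¬ IsField A := fun h => by
    rw [ringKrullDim_eq_zero_of_isField h] at hdim
    exact absurd hdim (by simp)
  rw [Curv2.deltaInv, Module.length_eq_zero_iff, Submodule.Quotient.subsingleton_iff,
    LinearMap.range_eq_top]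
  constructor
  · intro hsurj
    have hinj : Function.Injective (Algebra.linearMap A ↥(integralClosure A (FractionRing A))) :=
      fun a b h => IsFractionRing.injective A (FractionRing A) (congrArg Subtype.val h)
    let e : A ≃+* integralClosure A (FractionRing A) :=
      RingEquiv.ofBijective (algebraMap A _) ⟨hinj, hsurj⟩
    haveI hP : ((IsLocalRing.maximalIdeal A).comap e.symm.toRingHom).IsPrime := Ideal.comap_isPrime _ _
    obtain ⟨hdom, hic⟩ := normal_localization ((IsLocalRing.maximalIdeal A).comap e.symm.toRingHom)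
    haveI : IsLocalRing (integralClosure A (FractionRing A)) := e.isLocalRing
    have hmax : (IsLocalRing.maximalIdeal A).comap e.symm.toRingHom =
        IsLocalRing.maximalIdeal (integralClosure A (FractionRing A)) :=
      IsLocalRing.eq_maximalIdeal (Ideal.comap_isMaximal_of_surjective _ e.symm.surjective)
    have hu : ((IsLocalRing.maximalIdeal A).comap e.symm.toRingHom).primeCompl ≤
        IsUnit.submonoid (integralClosure A (FractionRing A)) := fun s hs => by
      by_contra hns
      exact hs (hmax.ge hns)
    let iso := (IsLocalization.atUnits (integralClosure A (FractionRing A))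
      ((IsLocalRing.maximalIdeal A).comap e.symm.toRingHom).primeCompl
      (S := Localization.AtPrime ((IsLocalRing.maximalIdeal A).comap e.symm.toRingHom)) hu).toRingEquiv
    haveI : IsDomain A := ((iso.injective.comp e.injective : Function.Injective (iso ∘ e)).isDomain
      (iso.toRingHom.comp e.toRingHom))
    haveI : IsDomain (integralClosure A (FractionRing A)) := e.symm.injective.isDomain e.symm.toRingHom
    haveI : IsIntegrallyClosed (integralClosure A (FractionRing A)) :=
      IsIntegrallyClosed.of_equiv
        (R := Localization.AtPrime ((IsLocalRing.maximalIdeal A).comap e.symm.toRingHom)) iso.symm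
    haveI : IsIntegrallyClosed A :=
      IsIntegrallyClosed.of_equiv (R := integralClosure A (FractionRing A)) e.symm
    haveI : Ring.KrullDimLE 1 A := Ring.krullDimLE_iff.mpr (by exact_mod_cast hdim.le)
    haveI : Ring.DimensionLEOne A :=
      ⟨fun {p} hp hpp => Ring.krullDimLE_one_iff_of_isPrime_bot.mp ‹_› p hp hpp⟩
    haveI : IsDedekindDomain A := {}
    exact ⟨inferInstance, ((IsDiscreteValuationRing.TFAE A hnf).out 0 2).mpr ‹IsDedekindDomain A›⟩
  · rintro ⟨_, _⟩ w
    obtain ⟨y, hy⟩ := IsIntegrallyClosed.isIntegral_iff.mp w.2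
    exact ⟨y, Subtype.ext hy⟩

end Groth.Agent.ReducedNormalization
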